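import Mathlib
import Cfsg.Agent.H636.SymSylow

/-!
# The wreath product `SL₂(F) ≀ S_n` in `Sp_{2n}(F)` and its subgroups `Q ≀ H`

* `blk σ A`: the symplectic matrix with 2×2 blocks `A j` at the places `(σ j, j)`.
* `wr Q H`: the subgroup of all `blk σ A` with `σ ∈ H` and all `A j ∈ Q`;
* `card_wr`: its order is `|Q| ^ n * |H|`;
* `pow_mem_wr`: if `Q / Q'` has exponent dividing `p` and `H` is generated by elements with
  `x ^ p = 1` then `x ^ p` is in the derived subgroup for all `x` in `wr Q H`.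
-/

set_option autoImplicit false

namespace Cfsg.Agent.H636.SympWreath

open Matrix Equiv Cfsg.Agent.H636.ElemAb

variable {F : Type*} [Field F] {n : ℕ}

/-- Monomial matrices. -/
def mono (σ : Perm (Fin n)) (a : Fin n → F) : Matrix (Fin n) (Fin n) F :=
  Matrix.of fun i j => if i = σ j then a j else 0

theorem mono_apply (σ : Perm (Fin n)) (a : Fin n → F) (i j : Fin n) :
    mono σ a i j = if i = σ j then a j else 0 := rfl

theorem mono_mul (σ τ : Perm (Fin n)) (a b : Fin n → F) :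
    mono σ a * mono τ b = mono (σ * τ) (fun j => a (τ j) * b j) := by
  ext i k
  rw [Matrix.mul_apply, mono_apply]
  simp only [mono_apply, Perm.mul_apply]
  rw [Finset.sum_eq_single (τ k)]
  · rw [if_pos rfl, ite_mul, zero_mul]
    rfl
  · intro j _ hj
    simp [hj]
  · simp

theorem mono_add (σ : Perm (Fin n)) (a b : Fin n → F) :
    mono σ a + mono σ b = mono σ (fun j => a j + b j) := by
  ext i k
  simp only [Matrix.add_apply, mono_apply]
  split_ifs <;> simp

theorem mono_sub (σ : Perm (Fin n)) (a b : Fin n → F) :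
    mono σ a - mono σ b = mono σ (fun j => a j - b j) := by
  ext i k
  simp only [Matrix.sub_apply, mono_apply]
  split_ifs <;> simp

theorem mono_one : (mono 1 (fun _ => 1) : Matrix (Fin n) (Fin n) F) = 1 := by
  ext i k
  simp only [mono_apply, Matrix.one_apply, Perm.one_apply]
  rfl

theorem mono_zero (σ : Perm (Fin n)) : (mono σ (fun _ => 0) : Matrix (Fin n) (Fin n) F) = 0 := by
  ext i k
  simp [mono_apply]

theorem mono_transpose_mul (σ : Perm (Fin n)) (a b : Fin n → F) :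
    (mono σ a)ᵀ * mono σ b = mono 1 (fun j => a j * b j) := by
  ext i k
  rw [Matrix.mul_apply]
  simp only [mono_apply, Matrix.transpose_apply, Perm.one_apply]
  rw [Finset.sum_eq_single (σ k)]
  · by_cases h : i = k
    · simp [h]
    · have h' : ¬ σ k = σ i := fun h0 => h (σ.injective h0).symm
      simp [h, h']
  · intro j _ hj
    simp [hj]
  · simp

/-- The symplectic matrix with 2×2 blocks `A j` at the places `(σ j, j)`. -/
def blk (σ : Perm (Fin n)) (A : Fin n → SpecialLinearGroup (Fin 2) F) :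
    Matrix.symplecticGroup (Fin n) F :=
  ⟨fromBlocks (mono σ fun j => (A j : Matrix (Fin 2) (Fin 2) F) 0 0)
    (mono σ fun j => (A j : Matrix (Fin 2) (Fin 2) F) 0 1)
    (mono σ fun j => (A j : Matrix (Fin 2) (Fin 2) F) 1 0)
    (mono σ fun j => (A j : Matrix (Fin 2) (Fin 2) F) 1 1), by
      rw [SymplecticGroup.fromBlocks_mem_iff]
      simp only [mono_transpose_mul, mono_sub]
      refine ⟨by simp only [mul_comm], by simp only [mul_comm], ?_⟩
      rw [← mono_one]
      congr 1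
      funext j
      have h := (A j).det_coe
      rw [Matrix.det_fin_two] at h
      linear_combination h⟩

theorem blk_mul (σ τ : Perm (Fin n)) (A B : Fin n → SpecialLinearGroup (Fin 2) F) :
    blk σ A * blk τ B = blk (σ * τ) (fun j => A (τ j) * B j) := by
  apply Subtype.ext
  change fromBlocks _ _ _ _ * fromBlocks _ _ _ _ = fromBlocks _ _ _ _
  rw [Matrix.fromBlocks_multiply]
  simp only [mono_mul, mono_add]
  have h : ∀ (i k : Fin 2) (j : Fin n),
      ((A (τ j) * B j : SpecialLinearGroup (Fin 2) F) : Matrix (Fin 2) (Fin 2) F) i k =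
      (A (τ j) : Matrix (Fin 2) (Fin 2) F) i 0 * (B j : Matrix (Fin 2) (Fin 2) F) 0 k +
        (A (τ j) : Matrix (Fin 2) (Fin 2) F) i 1 * (B j : Matrix (Fin 2) (Fin 2) F) 1 k := by
    intro i k j
    change ((A (τ j) : Matrix (Fin 2) (Fin 2) F) * (B j : Matrix (Fin 2) (Fin 2) F)) i k = _
    rw [Matrix.mul_apply, Fin.sum_univ_two]
  simp only [h]

theorem blk_one : blk 1 (1 : Fin n → SpecialLinearGroup (Fin 2) F) = 1 := by
  apply Subtype.ext
  change fromBlocks _ _ _ _ = (1 : Matrix (Fin n ⊕ Fin n) (Fin n ⊕ Fin n) F)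
  have h0 : ∀ j : Fin n, (((1 : Fin n → SpecialLinearGroup (Fin 2) F) j : SpecialLinearGroup (Fin 2) F) :
      Matrix (Fin 2) (Fin 2) F) 0 0 = (1 : F) := fun j => rfl
  have h1 : ∀ j : Fin n, (((1 : Fin n → SpecialLinearGroup (Fin 2) F) j : SpecialLinearGroup (Fin 2) F) :
      Matrix (Fin 2) (Fin 2) F) 0 1 = (0 : F) := fun j => rfl
  have h2 : ∀ j : Fin n, (((1 : Fin n → SpecialLinearGroup (Fin 2) F) j : SpecialLinearGroup (Fin 2) F) :
      Matrix (Fin 2) (Fin 2) F) 1 0 = (0 : F) := fun j => rfl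
  have h3 : ∀ j : Fin n, (((1 : Fin n → SpecialLinearGroup (Fin 2) F) j : SpecialLinearGroup (Fin 2) F) :
      Matrix (Fin 2) (Fin 2) F) 1 1 = (1 : F) := fun j => rfl
  simp only [h0, h1, h2, h3, mono_one, mono_zero]
  exact Matrix.fromBlocks_one

theorem blk_injective {σ τ : Perm (Fin n)} {A B : Fin n → SpecialLinearGroup (Fin 2) F}
    (h : blk σ A = blk τ B) : σ = τ ∧ A = B := by
  have h1 := congrArg Subtype.val h
  change fromBlocks _ _ _ _ = fromBlocks _ _ _ _ at h1
  rw [Matrix.fromBlocks_inj] at h1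
  obtain ⟨ha, hb, hc, hd⟩ := h1
  have key : σ = τ := by
    ext j : 1
    by_contra hne
    have h2 := congrFun (congrFun ha (σ j)) j
    have h3 := congrFun (congrFun hc (σ j)) j
    rw [mono_apply, mono_apply, if_pos rfl, if_neg hne] at h2 h3
    have h4 := (A j).det_coe
    rw [Matrix.det_fin_two, h2, h3] at h4
    simp at h4
  subst key
  refine ⟨rfl, ?_⟩
  funext j
  have e : ∀ a b : Fin n → F, mono σ a = mono σ b → a j = b j := by
    intro a b h2
    have h3 := congrFun (congrFun h2 (σ j)) j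
    rwa [mono_apply, mono_apply, if_pos rfl, if_pos rfl] at h3
  ext i k
  fin_cases i <;> fin_cases k
  · exact e _ _ ha
  · exact e _ _ hb
  · exact e _ _ hc
  · exact e _ _ hd

/-- The subgroup `Q ≀ H` of the symplectic group. -/
def wr (Q : Subgroup (SpecialLinearGroup (Fin 2) F)) (H : Subgroup (Perm (Fin n))) :
    Subgroup (Matrix.symplecticGroup (Fin n) F) where
  carrier := {x | ∃ σ ∈ H, ∃ A : Fin n → SpecialLinearGroup (Fin 2) F, (∀ i, A i ∈ Q) ∧ x = blk σ A}
  one_mem' := ⟨1, H.one_mem, 1, fun _ => Q.one_mem, blk_one.symm⟩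
  mul_mem' := by
    rintro _ _ ⟨σ, hσ, A, hA, rfl⟩ ⟨τ, hτ, B, hB, rfl⟩
    exact ⟨σ * τ, H.mul_mem hσ hτ, _, fun i => Q.mul_mem (hA _) (hB _), blk_mul _ _ _ _⟩
  inv_mem' := by
    rintro _ ⟨σ, hσ, A, hA, rfl⟩
    refine ⟨σ⁻¹, H.inv_mem hσ, fun j => (A (σ⁻¹ j))⁻¹, fun i => Q.inv_mem (hA _), ?_⟩
    rw [inv_eq_iff_mul_eq_one, blk_mul, mul_inv_cancel, ← blk_one]
    congr 1
    funext j
    simp

theorem card_wr [Finite F] (Q : Subgroup (SpecialLinearGroup (Fin 2) F)) (H : Subgroup (Perm (Fin n))) :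
    Nat.card (wr Q H) = Nat.card Q ^ n * Nat.card H := by
  have e : (Fin n → Q) × H ≃ wr Q H := by
    refine Equiv.ofBijective (fun x => ⟨blk x.2 (fun i => x.1 i), x.2, x.2.2, _, fun i => (x.1 i).2, rfl⟩)
      ⟨?_, ?_⟩
    · rintro ⟨A, σ, hσ⟩ ⟨B, τ, hτ⟩ h
      have h1 := blk_injective (congrArg Subtype.val h)
      obtain ⟨h2, h3⟩ := h1
      simp only at h2 h3
      subst h2
      have h4 : A = B := by
        funext i
        exact Subtype.ext (congrFun h3 i)
      subst h4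
      rfl
    · rintro ⟨_, σ, hσ, A, hA, rfl⟩
      exact ⟨(fun i => ⟨A i, hA i⟩, ⟨σ, hσ⟩), rfl⟩
  rw [← Nat.card_congr e, Nat.card_prod, Nat.card_fun, Nat.card_eq_fintype_card (α := Fin n),
    Fintype.card_fin]

/-- The base group. -/
def Phi : (Fin n → SpecialLinearGroup (Fin 2) F) →* Matrix.symplecticGroup (Fin n) F where
  toFun A := blk 1 A
  map_one' := blk_one
  map_mul' A B := by
    rw [blk_mul]
    rfl

/-- The top group. -/
def Psi : Perm (Fin n) →* Matrix.symplecticGroup (Fin n) F where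
  toFun σ := blk σ 1
  map_one' := blk_one
  map_mul' σ τ := by
    rw [blk_mul]
    congr 1
    funext j
    simp

theorem Phi_mem {Q : Subgroup (SpecialLinearGroup (Fin 2) F)} {H : Subgroup (Perm (Fin n))}
    {A : Fin n → SpecialLinearGroup (Fin 2) F} (hA : ∀ i, A i ∈ Q) : Phi A ∈ wr Q H :=
  ⟨1, H.one_mem, A, hA, rfl⟩

theorem Psi_mem {Q : Subgroup (SpecialLinearGroup (Fin 2) F)} {H : Subgroup (Perm (Fin n))}
    {σ : Perm (Fin n)} (hσ : σ ∈ H) : Psi σ ∈ wr Q H :=
  ⟨σ, hσ, 1, fun _ => Q.one_mem, rfl⟩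

theorem blk_eq (σ : Perm (Fin n)) (A : Fin n → SpecialLinearGroup (Fin 2) F) :
    blk σ A = Psi σ * Phi A := by
  change blk σ A = blk σ 1 * blk 1 A
  rw [blk_mul]
  congr 1
  funext j
  simp

theorem pow_mem_wr (p : ℕ) {Q : Subgroup (SpecialLinearGroup (Fin 2) F)} {H : Subgroup (Perm (Fin n))}
    (hQ : ∀ x ∈ Q, x ^ p ∈ ⁅Q, Q⁆) (hH : Gen p H) (x : wr Q H) : x ^ p ∈ commutator (wr Q H) := by
  refine pow_mem_of_subset p (wr Q H)
    ((Psi '' {σ | σ ∈ H ∧ σ ^ p = 1}) ∪ (Phi '' {A | ∀ i, A i ∈ Q})) ?_ ?_ ?_ x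
  · rintro _ (⟨σ, hσ, rfl⟩ | ⟨A, hA, rfl⟩)
    · exact Psi_mem hσ.1
    · exact Phi_mem hA
  · rintro _ ⟨σ, hσ, A, hA, rfl⟩
    rw [blk_eq]
    refine Subgroup.mul_mem _ ?_ (Subgroup.subset_closure (Or.inr ⟨A, hA, rfl⟩))
    have h1 : (Psi σ : Matrix.symplecticGroup (Fin n) F) ∈
        (Subgroup.closure {σ | σ ∈ H ∧ σ ^ p = 1}).map Psi := ⟨σ, hH hσ, rfl⟩
    rw [MonoidHom.map_closure] at h1
    exact Subgroup.closure_mono Set.subset_union_left h1
  · rintro _ (⟨σ, hσ, rfl⟩ | ⟨A, hA, rfl⟩)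
    · rw [← map_pow, hσ.2, map_one]
      exact Subgroup.one_mem _
    · rw [← map_pow]
      have h1 : A ^ p ∈ (⁅wr Q H, wr Q H⁆ : Subgroup (Matrix.symplecticGroup (Fin n) F)).comap Phi := by
        refine Subgroup.pi_mem_of_mulSingle_mem (A ^ p) fun i => ?_
        rw [Subgroup.mem_comap]
        set f : SpecialLinearGroup (Fin 2) F →* Matrix.symplecticGroup (Fin n) F :=
          Phi.comp (MonoidHom.mulSingle (fun _ : Fin n => SpecialLinearGroup (Fin 2) F) i) with hf
        have h2 : Q.map f ≤ wr Q H := by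
          rintro _ ⟨y, hy, rfl⟩
          refine Phi_mem fun j => ?_
          by_cases hj : j = i
          · subst hj
            simpa using hy
          · simp [Pi.mulSingle_eq_of_ne hj]
        have h3 : f ((A ^ p) i) ∈ (⁅Q, Q⁆ : Subgroup _).map f := ⟨_, hQ _ (hA i), rfl⟩
        rw [Subgroup.map_commutator] at h3
        exact Subgroup.commutator_mono h2 h2 h3
      exact h1

end Cfsg.Agent.H636.SympWreath
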