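import Cfsg.Agent.Nodes.WittAll
import Cfsg.Agent.Nodes.WittU
import Cfsg.Agent.Nodes.WittInst
import Cfsg.Agent.OddHalf.DblR.MinusTor
import Cfsg.Agent.H636.RgdAb

/-!
# Classical groups with a Witt frame in characteristic 2

The Sylow 2-subgroups of `PSp_2m(q)`, `PSU_n(q)` (`n ≥ 3`), `PΩ±_2m(q)`, `q` even, have elementary abelian
abelianization.  The root groups of type I have exponent 2; for the group `Adm` of pairs `(w, c)` which parametrises
the root groups of type II, `p * p` is trivial if `σ = 1` and the commutator `⁅p, smul a p⁆` if `a + σ a = 1`.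
-/

set_option autoImplicit false
set_option linter.unusedSectionVars false

namespace Cfsg.Agent.H636.LieTwoWitt

open Cfsg CoxeterSystem Cfsg.Agent.ChevalleyStructure.CoxeterGeom Cfsg.Agent.Tits.Roots Cfsg.Agent.Nodes.TypeC
open Cfsg.Agent.Nodes.Comb Cfsg.Agent.Nodes.Reps Cfsg.Agent.Nodes.WittRoot Cfsg.Agent.Nodes.BNOf
open Cfsg.Agent.Nodes Cfsg.Agent.Nodes.WittAll Cfsg.Agent.Nodes.WittU
open Cfsg.Agent.TitsThree Cfsg.Agent.TitsThree.Siegel Cfsg.Agent.TitsThree.SiegelGen Cfsg.Agent.TitsThree.WittFrame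
  Cfsg.Agent.TitsThree.WBridge Cfsg.Agent.TitsThree.WittWeyl Cfsg.Agent.TitsThree.FrameCN
open Cfsg.Agent.H636.RgdAb
open scoped commutatorElement

section gen

variable {F : Type*} [Field F] {V : Type*} [AddCommGroup V] [Module F V] {H : HForm F V} {n : ℕ}
  {Fr : Frame H (Fin n)}

/-- A non-trivial involution of a field of characteristic 2 has an element of trace one. -/
theorem exists_trace_one [CharP F 2] (hσ : ¬ ∀ t, H.σ t = t) : ∃ a : F, a - H.σ a = 1 := by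
  push Not at hσ
  obtain ⟨a, ha⟩ := hσ
  have hd : a - H.σ a ≠ 0 := fun h => ha (sub_eq_zero.1 h).symm
  refine ⟨a / (a - H.σ a), ?_⟩
  have h1 : H.σ (a - H.σ a) = a - H.σ a := by
    rw [map_sub, H.σσ, ← neg_sub, CharTwo.neg_eq]
  rw [map_div₀, h1, ← sub_div, div_self hd]

/-- **Squares in the group of admissible pairs.** -/
theorem adm_sq [CharP F 2] (p : Fr.Adm) : p * p = 1 ∨ ∃ q : Fr.Adm, p * p = ⁅p, q⁆ := by
  have hw : p.w + p.w = 0 := by
    rw [← two_smul F, CharTwo.two_eq_zero, zero_smul]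
  by_cases hσ : ∀ t, H.σ t = t
  · left
    have hε : H.ε = 1 := by
      have h1 := H.ε_mul
      rw [hσ] at h1
      have h2 : (H.ε - 1) * (H.ε - 1) = 0 := by
        linear_combination h1 - (H.ε - 1) * (CharTwo.two_eq_zero (R := F))
      exact sub_eq_zero.1 (mul_self_eq_zero.1 h2)
    have hh : H.h p.w p.w = 0 := by
      have h1 := p.herm
      rw [hε, hσ, one_mul, CharTwo.add_self_eq_zero] at h1
      exact neg_eq_zero.1 h1.symm
    ext
    · rw [Frame.Adm.mul_w, Frame.Adm.one_w, hw]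
    · rw [Frame.Adm.mul_c, Frame.Adm.one_c, hh, CharTwo.add_self_eq_zero, mul_zero, sub_zero]
  · right
    obtain ⟨a, ha⟩ := exists_trace_one hσ
    refine ⟨Frame.Adm.smul a p, ?_⟩
    rw [commutatorElement_def, eq_mul_inv_iff_mul_eq, eq_mul_inv_iff_mul_eq]
    ext
    · simp only [Frame.Adm.mul_w, Frame.Adm.smul_w]
      rw [hw, zero_add, add_comm]
    · have hw2 : p.w + p.w + a • p.w = a • p.w := by rw [hw, zero_add]
      have hz : H.h (a • p.w) (p.w + p.w) = 0 := by rw [hw, H.zero_right]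
      simp only [Frame.Adm.mul_c, Frame.Adm.mul_w, Frame.Adm.smul_w, Frame.Adm.smul_c]
      rw [hw2, hz, H.smul_left, H.smul_right]
      have h1 : a = 1 + H.σ a := by rw [← ha]; ring
      have h2 := CharTwo.two_eq_zero (R := F)
      linear_combination (H.ε⁻¹ * H.h p.w p.w) * h1 + p.c * h2

/-- **Root groups of a Witt frame.** -/
theorem sq_mem_PG [CharP F 2] {a b : Fin n × Bool} (hab : Ok a b) {x : V ≃ₗ[F] V} (hx : x ∈ PG Fr a b) :
    x ^ 2 = 1 ∨ ∃ y ∈ PG Fr a b, x ^ 2 = ⁅x, y⁆ := by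
  rcases hab with hab | rfl
  · rw [PG_ne Fr hab] at hx
    obtain ⟨t, rfl⟩ := hx
    left
    rw [pow_two, ← Fr.X_add, CharTwo.add_self_eq_zero, Fr.X_zero]
  · rw [PG_self] at hx ⊢
    obtain ⟨p, rfl⟩ := hx
    rcases adm_sq p with h | ⟨q, h⟩
    · left
      rw [pow_two, ← Fr.Z_mul, h, Fr.Z_one]
    · right
      refine ⟨Fr.Z a q, ⟨q, rfl⟩, ?_⟩
      rw [pow_two, ← Fr.Z_mul, h, commutatorElement_def, commutatorElement_def, Fr.Z_mul, Fr.Z_mul, Fr.Z_mul,
        Fr.Z_inv, Fr.Z_inv]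

variable {K : Type*} [Group K] (M : Model Fr K)

/-- **the Sylow 2-subgroups of a model over a Witt frame** -/
theorem sylEl_model [Finite V] [Finite K] [CharP F 2] (hA : AmbT Fr 2 M.I) (hn : 0 < n) {p0 : Fr.Adm}
    (hp0 : p0.c ≠ 0) : SylEl K := by
  have : Fact (Nat.Prime 2) := ⟨Nat.prime_two⟩
  have hfin : Finite (CoxeterMatrix.B n).Group := finite_W (CoxeterMatrix.B n).toCoxeterSystem
  have R := rgdC_model M hA hp0 (CoxeterMatrix.B n).toCoxeterSystem
  refine fun S => sq_mem_of_rgd R (WittModel.G1_eq_top M hn _) (fun i x hx => ?_) S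
  obtain ⟨g, hg, hgr, rfl⟩ := (WittModel.mem_X M).1 hx
  rw [WittRGD.rg_sr] at hgr
  rw [← map_pow]
  rcases sq_mem_PG (TypeC.ok_nx i) hgr with h | ⟨y, hy, h⟩
  · have h1 : (⟨g, hg⟩ : ↥M.I) ^ 2 = 1 := Subtype.ext h
    rw [h1, map_one]
    exact Subgroup.one_mem _
  · have hyr : y ∈ rg Fr (sr i) := by
      rw [WittRGD.rg_sr]
      exact hy
    have hyI : y ∈ M.I := hA.rg_le _ hyr
    have h1 : (⟨g, hg⟩ : ↥M.I) ^ 2 = ⁅(⟨g, hg⟩ : ↥M.I), ⟨y, hyI⟩⁆ := Subtype.ext h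
    rw [h1, map_commutatorElement]
    exact Subgroup.commutator_mem_commutator hx (WittModel.mem_X_of M hyI hyr)

end gen

/-! ### unitary groups -/

section Unitary

open Cfsg.Agent.TitsThree.KSideU Cfsg.Agent.TitsThree.KSideUDesc

variable {F : Type*} [Field F] [Fintype F] {q N : ℕ} (hF : Fintype.card F = q ^ 2)

include hF in
theorem sylEl_PSU (hN : 3 ≤ N) [CharP F 2] : SylEl (PSU N F q) := by
  have : Fact (Nat.Prime 2) := ⟨Nat.prime_two⟩
  obtain ⟨m, hm⟩ : ∃ m, N = 2 * m ∨ N = 2 * m + 1 := ⟨N / 2, by omega⟩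
  obtain ⟨W, -⟩ := exists_wframe hF hm
  obtain ⟨p0, hp0, -⟩ := exists_adm hF W
  have hA : AmbT (toFrame W) 2 (KInstU.model hF (by omega : 3 ≤ N) W).I := AmbT.of_amb (amb_U hF W) 2
  exact sylEl_model (KInstU.model hF (by omega) W) hA (by omega) hp0

end Unitary

/-! ### symplectic groups -/

section Symplectic

open SpIdent SpGen

theorem sylEl_PSp {F : Type*} [Field F] [Finite F] [CharP F 2] {m : ℕ} (hm : 1 ≤ m) : SylEl (PSp m F) := by
  have : Fact (Nat.Prime 2) := ⟨Nat.prime_two⟩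
  have hA : AmbT (frame m F) 2 (KInstSp.model m F).I := AmbT.of_amb amb_Sp 2
  exact sylEl_model (KInstSp.model m F) hA (by omega) (p0 := SpIdent.adm 1) one_ne_zero

end Symplectic

/-! ### orthogonal groups of minus type -/

section Minus

open Cfsg.Agent.LieClassical.OrthForms Cfsg.Agent.TitsThree.KSideO Cfsg.Agent.KFacts.SpecMinus
  Cfsg.Agent.OddHalf.DblR.MinusTor

theorem sylEl_POmegaMinus {F : Type*} [Field F] [Finite F] [CharP F 2] (a b : F)
    (hab : ∀ z₁ z₂ : F, z₁ ^ 2 + a * z₁ * z₂ + b * z₂ ^ 2 = 0 → z₁ = 0 ∧ z₂ = 0) {m : ℕ} (hm : 2 ≤ m) :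
    SylEl (Cfsg.POmega F (Cfsg.quadFormMinus m F a b)) := by
  have : Fact (Nat.Prime 2) := ⟨Nat.prime_two⟩
  have h2 : (2 : F) = 0 := CharTwo.two_eq_zero
  rw [← coe_minusForm]
  have hA := ambT_minus h2 hm a b hab
  obtain ⟨p0, hp0⟩ := adm_minus m a b hab
  exact sylEl_model (modelMinus hm a b hab) hA (by omega) hp0

end Minus

/-! ### orthogonal groups of plus type -/

section Plus

open QuadraticMap
open Cfsg.Agent.LieClassical Cfsg.Agent.LieClassical.OrthCore Cfsg.Agent.LieClassical.OrthTrans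
open Cfsg.Agent.LieClassical.OrthSimple Cfsg.Agent.LieClassical.OrthFinite Cfsg.Agent.LieClassical.OrthForms
open Cfsg.Agent.TitsThree.KSideO
open Cfsg.Agent.Nodes.WittInst

theorem sylEl_POmegaPlus_aux {F : Type} [Field F] [Finite F] [CharP F 2] {m : ℕ} (hm : 1 ≤ m) :
    SylEl (Cfsg.POmega F (Cfsg.quadFormPlus (m + 2) F)) := by
  have : Fact (Nat.Prime 2) := ⟨Nat.prime_two⟩
  rw [← coe_plusForm]
  have hG : Good (plusForm (m + 2) F) := by
    apply good_of_finite (nondeg_plusForm (m + 2) F)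
    rw [Module.finrank_fintype_fun_eq_card, Fintype.card_sum, Fintype.card_fin]
    omega
  have hW : Finite (TypeD.M m).Group := TypeD.finite_W (TypeD.M m).toCoxeterSystem
  set W := wplus (m + 2) F with hWd
  have hfin : Finite (((Fin (m + 2)) ⊕ (Fin (m + 2)) → F) ≃ₗ[F] ((Fin (m + 2)) ⊕ (Fin (m + 2)) → F)) :=
    Finite.of_injective (fun g : ((Fin (m + 2)) ⊕ (Fin (m + 2)) → F) ≃ₗ[F] ((Fin (m + 2)) ⊕ (Fin (m + 2)) → F) =>
      (g : ((Fin (m + 2)) ⊕ (Fin (m + 2)) → F) → ((Fin (m + 2)) ⊕ (Fin (m + 2)) → F))) DFunLike.coe_injective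
  have R := rgdD_model W hG (amb_plus _) (adm_plus _) (p := 2) (TypeD.M m).toCoxeterSystem
  refine fun S => sq_mem_of_rgd' R (G1D_eq_top W (toPOmega hG) (toPOmega_surjective hG) (adm_plus _) _)
    (fun i x hx => ?_) S
  obtain ⟨g, hg, rfl⟩ := hx
  have h1 : (g : ((Fin (m + 2)) ⊕ (Fin (m + 2)) → F) ≃ₗ[F] ((Fin (m + 2)) ⊕ (Fin (m + 2)) → F)) ∈
    WittRGDD.rg (toFrame W) (sr i) := hg
  rw [WittRGDD.rg_sr] at h1
  obtain ⟨a, ha⟩ := h1
  rw [← map_mul]
  have h2 : g * g = 1 := by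
    apply Subtype.ext
    rw [Subgroup.coe_mul, ha, ← (toFrame W).X_add, CharTwo.add_self_eq_zero, (toFrame W).X_zero]
    rfl
  rw [h2, map_one]

theorem sylEl_POmegaPlus {F : Type} [Field F] [Finite F] [CharP F 2] {m : ℕ} (hm : 3 ≤ m) :
    SylEl (Cfsg.POmega F (Cfsg.quadFormPlus m F)) := by
  obtain ⟨m, rfl⟩ : ∃ k, m = k + 2 := ⟨m - 2, by omega⟩
  exact sylEl_POmegaPlus_aux (by omega)

end Plus

end Cfsg.Agent.H636.LieTwoWitt
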