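import Cfsg.Agent.H955.FSVec
import Cfsg.Agent.H955.FSPlane
import Cfsg.Agent.H955.FSField

/-!
# Stabilisers of nonsingular vectors in orthogonal groups of characteristic two (step `T2`)

* `nondeg_fixS_of_odd` : the fixed space of an isometry of odd order is nondegenerate;
* `exists_cover` : the covering subgroups;
* `T2_step` : for S4940, S4972, S4973.
-/

set_option autoImplicit false

universe u

namespace Cfsg.Agent.H636.FSTwo

open Module QuadraticMap Cfsg.Agent.LieClassical.OrthCore Cfsg.Agent.LieClassical.OrthTrans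
open Cfsg.Agent.H955 Cfsg.Agent.H955.FS Cfsg.Agent.H955.FS.Field2

section

variable {F V : Type u} [Field F] [AddCommGroup V] [Module F V] {Q : QuadraticForm F V}

theorem pow_mem_O {c : V ≃ₗ[F] V} (hc : c ∈ O Q) (i : ℕ) : c ^ i ∈ O Q := pow_mem hc i

/-- The fixed space of an isometry of odd order is nondegenerate. -/
theorem nondeg_fixS_of_odd [CharP F 2] (hQ : Nondeg Q) {c : V ≃ₗ[F] V} (hc : c ∈ O Q)
    (hodd : Odd (orderOf c)) : Nondeg (res Q (fixS c)) := by
  rw [nondeg_res_iff]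
  intro x hx hxy
  refine hQ x fun v => ?_
  obtain ⟨r, hr⟩ : ∃ r, r = orderOf c := ⟨_, rfl⟩
  have hcx : c x = x := mem_fixS.1 hx
  have hpow : ∀ i : ℕ, (c ^ i) x = x := by
    intro i
    induction i with
    | zero => rfl
    | succ i ih =>
      rw [pow_succ]
      change (c ^ i) (c x) = x
      rw [hcx, ih]
  have hsum : (∑ i ∈ Finset.range r, (c ^ i) v) ∈ fixS c := by
    rw [mem_fixS, map_sum]
    have h1 : ∀ i ∈ Finset.range r, c ((c ^ i) v) = (c ^ (i + 1)) v := by
      intro i _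
      rw [pow_succ']
      rfl
    rw [Finset.sum_congr rfl h1]
    have h2 := Finset.sum_range_succ' (fun i => (c ^ i) v) r
    have h3 := Finset.sum_range_succ (fun i => (c ^ i) v) r
    rw [h2] at h3
    have h4 : (c ^ r) v = (c ^ 0) v := by
      rw [hr, pow_orderOf_eq_one, pow_zero]
    rw [h4] at h3
    exact add_right_cancel h3
  have h5 := hxy _ hsum
  have h6 : polar Q x (∑ i ∈ Finset.range r, (c ^ i) v) = ∑ i ∈ Finset.range r, polar Q x ((c ^ i) v) :=
    map_sum (polarBilin Q x) _ _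
  rw [h6] at h5
  have h7 : ∀ i ∈ Finset.range r, polar Q x ((c ^ i) v) = polar Q x v := by
    intro i _
    have h8 := polar_map (pow_mem_O hc i) x v
    rwa [hpow] at h8
  rw [Finset.sum_congr rfl h7, Finset.sum_const, Finset.card_range, nsmul_eq_mul] at h5
  have h9 : (r : F) ≠ 0 := by
    rw [hr]
    intro h
    have h10 := (CharP.cast_eq_zero_iff F 2 (orderOf c)).1 h
    exact (Nat.not_even_iff_odd.2 hodd) (even_iff_two_dvd.2 h10)
  exact (mul_eq_zero.1 h5).resolve_left h9

end

section Group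

variable {F V : Type u} [Field F] [AddCommGroup V] [Module F V]

/-- A finite `2`-group of semilinear (here: linear) maps stabilising `W` and fixing `u ∈ W` fixes a coset
`s + F u ≠ F u` in `W`, if `W ≠ F u` -/
theorem exists_fixed_coset [Finite F] [CharP F 2] [FiniteDimensional F V] (P : Subgroup (V ≃ₗ[F] V)) (hP : IsPGroup 2 P)
    (W : Submodule F V) (u : V) (hu : u ∈ W) (hPW : ∀ g ∈ P, ∀ w ∈ W, g w ∈ W) (hPu : ∀ g ∈ P, g u = u)
    (hd : 2 ≤ finrank F W) :
    ∃ s ∈ W, (∀ a : F, s ≠ a • u) ∧ ∀ g ∈ P, ∃ a : F, g s = s + a • u := by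
  classical
  have hfin := finite_equiv F V
  have hfV : Finite V := Module.finite_of_finite F
  -- the submodule generated by `u` in `W`
  let L : Submodule F W := Submodule.span F {⟨u, hu⟩}
  have hL : finrank F L ≤ 1 := by
    by_cases h0 : (⟨u, hu⟩ : W) = 0
    · have hL0 : L = ⊥ := by
        change Submodule.span F {(⟨u, hu⟩ : W)} = ⊥
        rw [h0, Submodule.span_zero_singleton]
      rw [hL0, finrank_bot]
      norm_num
    · exact (finrank_span_singleton h0).le
  have hq : 1 ≤ finrank F (W ⧸ L) := by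
    have := Submodule.finrank_quotient_add_finrank L
    omega
  have hgW : ∀ g : P, ∀ w : W, (g : V ≃ₗ[F] V) w ∈ W := fun g w => hPW g g.2 w w.2
  let ρ : ∀ g : P, W →ₗ[F] W := fun g =>
    { toFun := fun w => ⟨(g : V ≃ₗ[F] V) w, hgW g w⟩
      map_add' := fun a b => Subtype.ext (map_add _ _ _)
      map_smul' := fun a b => Subtype.ext (map_smul _ _ _) }
  have hρL : ∀ g : P, L ≤ L.comap (ρ g) := by
    intro g
    rw [Submodule.span_le, Set.singleton_subset_iff]
    change ρ g ⟨u, hu⟩ ∈ L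
    have h1 : ρ g ⟨u, hu⟩ = ⟨u, hu⟩ := Subtype.ext (hPu g g.2)
    rw [h1]
    exact Submodule.mem_span_singleton_self _
  let act : MulAction P (W ⧸ L) :=
    { smul := fun g x => L.mapQ L (ρ g) (hρL g) x
      one_smul := by
        intro x
        induction x using Submodule.Quotient.induction_on with | _ w => rfl
      mul_smul := by
        intro a b x
        induction x using Submodule.Quotient.induction_on with | _ w => rfl }
  have hsmul : ∀ (g : P) (w : W), g • (L.mkQ w) = L.mkQ (ρ g w) := fun g w => rfl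
  have hfq : Finite (W ⧸ L) := Quotient.finite _
  have h2 : 2 ∣ Nat.card (W ⧸ L) := by
    have h3 : Nat.card (W ⧸ L) = Nat.card F ^ finrank F (W ⧸ L) := Module.natCard_eq_pow_finrank
    have := Fintype.ofFinite F
    have h4 : 2 ∣ Nat.card F := by
      rw [Nat.card_eq_fintype_card]
      obtain ⟨n, -, hn⟩ := FiniteField.card F 2
      rw [hn]
      exact dvd_pow_self 2 n.ne_zero
    rw [h3]
    exact dvd_pow h4 (by omega)
  have h0 : (0 : W ⧸ L) ∈ MulAction.fixedPoints P (W ⧸ L) := by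
    intro g
    change L.mapQ L (ρ g) (hρL g) 0 = 0
    exact map_zero _
  obtain ⟨x, hx, hx0⟩ := hP.exists_fixed_point_of_prime_dvd_card_of_fixed_point (W ⧸ L) h2 h0
  obtain ⟨s, rfl⟩ := L.mkQ_surjective x
  refine ⟨s, s.2, ?_, ?_⟩
  · intro a ha
    apply hx0
    symm
    rw [Submodule.mkQ_apply, Submodule.Quotient.mk_eq_zero]
    have h5 : s = a • (⟨u, hu⟩ : W) := Subtype.ext ha
    rw [h5]
    exact Submodule.smul_mem _ _ (Submodule.mem_span_singleton_self _)
  · intro g hg
    have h5 := hx ⟨g, hg⟩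
    rw [hsmul] at h5
    have h6 : ρ ⟨g, hg⟩ s - s ∈ L := (Submodule.Quotient.eq L).1 h5
    obtain ⟨a, ha⟩ := Submodule.mem_span_singleton.1 h6
    refine ⟨a, ?_⟩
    have h7 := congrArg Subtype.val ha
    change a • u = g s - s at h7
    rw [h7]
    abel

end Group

section Cover

set_option linter.unusedSectionVars false

variable {F V : Type u} [Field F] [Finite F] [CharP F 2] [AddCommGroup V] [Module F V] [FiniteDimensional F V]
  {Q : QuadraticForm F V}

/-- isometries of a nondegenerate plane fixing a nonsingular vector have order at most two -/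
theorem sq_of_fix_plane (hQ : Nondeg Q) (hd : finrank F V = 2) {u : V} (hu : Q u ≠ 0) {g : V ≃ₗ[F] V} (hg : g ∈ O Q)
    (hgu : g u = u) : g * g = 1 := by
  have hu0 : u ≠ 0 := by
    rintro rfl
    exact hu (QuadraticMap.map_zero Q)
  have huu : polar Q u u = 0 := by
    rw [polar_self', CharTwo.two_eq_zero, zero_mul]
  have hle : Submodule.span F {u} ≤ perp Q (Submodule.span F {u}) := by
    rw [Submodule.span_le, Set.singleton_subset_iff]
    intro w hw
    obtain ⟨a, rfl⟩ := Submodule.mem_span_singleton.1 hw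
    rw [polar_smul_left, huu, smul_zero]
  have h1 : finrank F (Submodule.span F {u}) = 1 := finrank_span_singleton hu0
  have h2 := finrank_perp hQ (Submodule.span F {u})
  rw [h1, hd] at h2
  have heq : Submodule.span F {u} = perp Q (Submodule.span F {u}) :=
    Submodule.eq_of_le_of_finrank_eq hle (by rw [h1, h2])
  ext w
  have h3 : g w - w ∈ perp Q (Submodule.span F {u}) := by
    intro x hx
    obtain ⟨a, rfl⟩ := Submodule.mem_span_singleton.1 hx
    rw [polar_smul_left, sub_eq_add_neg, polar_add_right, polar_neg_right]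
    have h4 := polar_map hg u w
    rw [hgu] at h4
    rw [h4, add_neg_cancel, smul_zero]
  rw [← heq] at h3
  obtain ⟨a, ha⟩ := Submodule.mem_span_singleton.1 h3
  have h5 : g w = w + a • u := by rw [ha]; abel
  change g (g w) = w
  rw [h5, map_add, map_smul, hgu, h5, add_assoc, char_two_self (F := F), add_zero]

/-- restriction of a linear equivalence to a stable subspace -/
theorem exists_restrict {W : Submodule F V} (g : V ≃ₗ[F] V) (h : ∀ w ∈ W, g w ∈ W) :
    ∃ e : W ≃ₗ[F] W, ∀ w, (e w : V) = g w := by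
  refine ⟨LinearEquiv.ofInjectiveEndo ((g : V →ₗ[F] V).restrict h) ?_, fun w => rfl⟩
  intro a b hab
  exact Subtype.ext (g.injective (congrArg Subtype.val hab))

/-- isometries stabilising a nondegenerate subspace are glued -/
theorem exists_eq_glue {W : Submodule F V} (hW : Nondeg (res Q W)) {g : V ≃ₗ[F] V} (hg : g ∈ O Q)
    (h : ∀ w ∈ W, g w ∈ W) : ∃ p : (W ≃ₗ[F] W) × (perp Q W ≃ₗ[F] perp Q W), glue hW p = g ∧
      ∀ w, (p.1 w : V) = g w := by
  obtain ⟨e, he⟩ := exists_restrict g h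
  have h2 : ∀ w ∈ perp Q W, g w ∈ perp Q W := by
    intro w hw x hx
    have h3 : g (e.symm ⟨x, hx⟩) = x := by
      rw [← he, LinearEquiv.apply_symm_apply]
    rw [← h3, polar_map hg]
    exact hw _ (e.symm ⟨x, hx⟩).2
  obtain ⟨f, hf⟩ := exists_restrict g h2
  refine ⟨(e, f), ?_, he⟩
  ext v
  obtain ⟨a, b, rfl⟩ := exists_add_perp hW v
  rw [glue_apply, map_add, he, hf]

/-- the covering subgroups -/
theorem exists_cover {n : ℕ} (h5 : T5.{u} n) (h0 : ∀ m < n, T0.{u} m) (hQ : Nondeg Q) (hd : finrank F V = 2 * n)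
    {u : V} (hu : Q u ≠ 0) {c : V ≃ₗ[F] V} (hc : c ∈ fixV Q u) (hodd : Odd (orderOf c)) {P : Subgroup (V ≃ₗ[F] V)}
    (hPG : P ≤ fixV Q u) (hP : IsPGroup 2 P) (hcP : ∀ g ∈ P, g * c * g⁻¹ = c ∨ g * c * g⁻¹ = c⁻¹) :
    ∃ Y : Subgroup (V ≃ₗ[F] V), Y ≤ fixV Q u ∧ c ∈ Y ∧ P ≤ Y ∧ FSGood False Y := by
  classical
  have hfin := finite_equiv F V
  have hu0 : u ≠ 0 := by
    rintro rfl
    exact hu (QuadraticMap.map_zero Q)
  have huu : polar Q u u = 0 := by
    rw [polar_self', CharTwo.two_eq_zero, zero_mul]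
  have hV0 := nondeg_fixS_of_odd hQ hc.1 hodd
  have huV : u ∈ fixS c := mem_fixS.2 hc.2
  have hPV : ∀ g ∈ P, ∀ w ∈ fixS c, g w ∈ fixS c := by
    intro g hg w hw
    rw [mem_fixS] at hw ⊢
    rcases hcP g hg with h | h
    · have h1 : g * c = c * g := by rw [mul_inv_eq_iff_eq_mul] at h; exact h
      have h2 : g (c w) = c (g w) := congrArg (fun f : V ≃ₗ[F] V => f w) h1
      rw [← h2, hw]
    · have h1 : g * c = c⁻¹ * g := by rw [mul_inv_eq_iff_eq_mul] at h; exact h
      have h2 : g (c w) = c.symm (g w) := congrArg (fun f : V ≃ₗ[F] V => f w) h1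
      rw [hw] at h2
      rw [LinearEquiv.eq_symm_apply] at h2
      exact h2
  by_cases h4 : 4 ≤ finrank F (fixS c)
  · -- a singular vector
    let W : Submodule F V := fixS c ⊓ perp Q (Submodule.span F {u})
    have hmemW : ∀ w, w ∈ W ↔ c w = w ∧ polar Q u w = 0 := by
      intro w
      rw [Submodule.mem_inf, mem_fixS]
      refine and_congr_right fun _ => ⟨fun h => h u (Submodule.mem_span_singleton_self u), fun h x hx => ?_⟩
      obtain ⟨a, rfl⟩ := Submodule.mem_span_singleton.1 hx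
      rw [polar_smul_left, h, smul_zero]
    have huW : u ∈ W := (hmemW u).2 ⟨hc.2, huu⟩
    have hPW : ∀ g ∈ P, ∀ w ∈ W, g w ∈ W := by
      intro g hg w hw
      rw [hmemW] at hw ⊢
      refine ⟨mem_fixS.1 (hPV g hg w (mem_fixS.2 hw.1)), ?_⟩
      have h1 := polar_map (hPG hg).1 u w
      rw [(hPG hg).2, hw.2] at h1
      exact h1
    have hdW : 2 ≤ finrank F W := by
      have h1 := Submodule.finrank_sup_add_finrank_inf_eq (fixS c) (perp Q (Submodule.span F {u}))
      have h2 := finrank_perp hQ (Submodule.span F {u})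
      rw [finrank_span_singleton hu0] at h2
      have h3 := Submodule.finrank_le (fixS c ⊔ perp Q (Submodule.span F {u}))
      change 2 ≤ finrank F (fixS c ⊓ perp Q (Submodule.span F {u}) : Submodule F V)
      omega
    obtain ⟨s, hsW, hsu, hsP⟩ := exists_fixed_coset P hP W u huW hPW (fun g hg => (hPG hg).2) hdW
    obtain ⟨t, ht⟩ : ∃ t : F, t * t * Q u = Q s := by
      refine ⟨rt F (Q s / Q u), ?_⟩
      rw [rt_mul_rt, div_mul_cancel₀ _ hu]
    rw [hmemW] at hsW
    obtain ⟨s', hs'⟩ : ∃ s', s' = s + t • u := ⟨_, rfl⟩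
    have hsu' : polar Q s u = 0 := by rw [polar_comm]; exact hsW.2
    have hpol : polar Q s' u = 0 := by
      rw [hs', polar_add_left, hsu', polar_smul_left, huu, smul_zero, add_zero]
    have hQs' : Q s' = 0 := by
      rw [hs', Q_add, QuadraticMap.map_smul, polar_smul_right, hsu', smul_zero, add_zero, smul_eq_mul, ht]
      have h2 : (2 : F) = 0 := CharTwo.two_eq_zero
      rw [← two_mul, h2, zero_mul]
    have hs0 : s' ≠ 0 := by
      intro h
      rw [hs'] at h
      apply hsu (-t)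
      rw [neg_smul]
      exact eq_neg_of_add_eq_zero_left h
    have hPs : ∀ g ∈ P, g s' = s' := by
      intro g hg
      obtain ⟨a, ha⟩ := hsP g hg
      have h1 : g s' = s' + a • u := by
        rw [hs', map_add, ha, map_smul, (hPG hg).2]
        abel
      have h2 := (hPG hg).1 s'
      rw [h1, Q_add, QuadraticMap.map_smul, polar_smul_right, hpol, smul_zero, add_zero, hQs', zero_add, smul_eq_mul,
        mul_eq_zero] at h2
      have h3 : a = 0 := mul_self_eq_zero.1 (h2.resolve_right hu)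
      rw [h1, h3, zero_smul, add_zero]
    have hcs : c s' = s' := by
      rw [hs', map_add, map_smul, hc.2, hsW.1]
    have hmem : ∀ g, g ∈ O Q → g s' = s' → g u = u → g ∈ transV Q s' u ⊥ := by
      intro g h1 h2 h3
      exact ⟨h1, h2, 0, zero_mem _, by rw [zero_smul, add_zero, h3]⟩
    refine ⟨transV Q s' u ⊥, ?_, hmem c hc.1 hcs hc.2, fun g hg => hmem g (hPG hg).1 (hPs g hg) (hPG hg).2,
      h5 F V Q hQ hd s' u ⊥ hs0 hQs' hu hpol⟩
    rintro g ⟨h1, -, γ, hγ, h3⟩
    rw [AddSubgroup.mem_bot] at hγ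
    rw [hγ, zero_smul, add_zero] at h3
    exact ⟨h1, h3⟩
  · -- dimension two
    have heven := even_finrank hV0
    have hpos : 0 < finrank F (fixS c) := by
      rw [Module.finrank_pos_iff_exists_ne_zero]
      exact ⟨⟨u, huV⟩, fun h => hu0 (congrArg Subtype.val h)⟩
    have h2 : finrank F (fixS c) = 2 := by
      obtain ⟨k, hk⟩ := heven
      omega
    have hperp : Nondeg (res Q (perp Q (fixS c))) := nondeg_perp hQ hV0
    have hdperp : finrank F (perp Q (fixS c)) = 2 * (n - 1) := by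
      have := finrank_perp hQ (fixS c)
      omega
    have hn : n - 1 < n := by
      have := Submodule.finrank_le (fixS c)
      omega
    have hf1 := finite_equiv F (fixS c)
    have hf2 := finite_equiv F (perp Q (fixS c))
    let u' : fixS c := ⟨u, huV⟩
    have hsq : ∀ x : fixV (res Q (fixS c)) u', x * x = 1 := fun x =>
      Subtype.ext (sq_of_fix_plane hV0 h2 (u := u') hu x.2.1 x.2.2)
    have hA : FSGood False (fixV (res Q (fixS c)) u') := by
      refine FSGood.of_isConj_inv ((fsGood_of_compl (⊥ : Subgroup (fixV (res Q (fixS c)) u'))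
        (by rw [Subgroup.card_bot]; exact odd_one) fun x _ => hsq x).mono fun _ => trivial) fun x => ?_
      rw [inv_eq_of_mul_eq_one_left (hsq x)]
    have hB : FSGood False (O (res Q (perp Q (fixS c)))) :=
      h0 (n - 1) hn F (perp Q (fixS c)) (res Q (perp Q (fixS c))) hperp hdperp
    have hAB := hA.prod hB
    let Y' : Subgroup ((fixS c ≃ₗ[F] fixS c) × (perp Q (fixS c) ≃ₗ[F] perp Q (fixS c))) :=
      (fixV (res Q (fixS c)) u').prod (O (res Q (perp Q (fixS c))))
    have hmem : ∀ g, g ∈ O Q → (∀ w ∈ fixS c, g w ∈ fixS c) → g u = u → g ∈ Y'.map (glue hV0) := by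
      intro g h3 h6 h7
      obtain ⟨p, rfl, hp⟩ := exists_eq_glue hV0 h3 h6
      have h8 := (glue_mem_O hV0).1 h3
      refine ⟨p, ⟨⟨h8.1, ?_⟩, h8.2⟩, rfl⟩
      exact Subtype.ext ((hp u').trans h7)
    refine ⟨Y'.map (glue hV0), ?_, hmem c hc.1 (fun w hw => ?_) hc.2, fun g hg => hmem g (hPG hg).1 (hPV g hg) (hPG hg).2, ?_⟩
    · rintro _ ⟨p, hp, rfl⟩
      refine ⟨(glue_mem_O hV0).2 ⟨hp.1.1, hp.2⟩, ?_⟩
      have h3 := glue_left hV0 p u'
      have h6 : p.1 u' = u' := hp.1.2
      rw [h6] at h3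
      exact h3
    · rw [mem_fixS.1 hw]
      exact hw
    · have e1 : Y' ≃* (fixV (res Q (fixS c)) u') × (O (res Q (perp Q (fixS c)))) := Subgroup.prodEquiv _ _
      have e2 : Y' ≃* Y'.map (glue hV0) := Y'.equivMapOfInjective _ (glue_injective hV0)
      exact hAB.of_equiv (e1.symm.trans e2)

end Cover

theorem T2_step (n : ℕ) (h5 : T5.{u} n) (h0 : ∀ m < n, T0.{u} m) : T2.{u} n := by
  intro F V _ _ _ _ _ _ Q hQ hd u hu
  have := finite_equiv F V
  refine fsGood_of_inv (fsGood_of_cover_amb _ fun c hc hodd P hPG hP hcP => ?_) fun g hg => ?_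
  · obtain ⟨Y, h1, h2, h3, h4⟩ := exists_cover h5 h0 hQ hd hu hc hodd hPG hP hcP
    exact ⟨Y, h1, h2, h3, h4.mono fun h => h.elim⟩
  · obtain ⟨t, r, hr, hn⟩ : ∃ t r : ℕ, Odd r ∧ orderOf g = 2 ^ t * r := by
      obtain ⟨t, r, hr, hn⟩ := Nat.exists_eq_two_pow_mul_odd (orderOf_pos g).ne'
      exact ⟨t, r, hr, hn⟩
    have hcop : (2 ^ t).Coprime r := Nat.Coprime.pow_left _ (Nat.coprime_two_left.2 hr)
    have ho1 : orderOf (g ^ (2 ^ t)) = r := by
      rw [orderOf_pow, hn, Nat.gcd_eq_right (Dvd.intro _ rfl), Nat.mul_div_cancel_left _ (by positivity)]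
    have ho2 : orderOf (g ^ r) = 2 ^ t := by
      rw [orderOf_pow, hn, Nat.gcd_eq_right (Dvd.intro_left _ rfl), Nat.mul_div_cancel _ hr.pos]
    obtain ⟨Y, h1, h2, h3, h4⟩ := exists_cover h5 h0 hQ hd hu (c := g ^ (2 ^ t)) (pow_mem hg _) (by rw [ho1]; exact hr)
      (P := Subgroup.zpowers (g ^ r)) (by
        rw [Subgroup.zpowers_le]
        exact pow_mem hg _)
      (IsPGroup.of_card (by rw [Nat.card_zpowers, ho2]))
      (by
        intro x hx
        left
        obtain ⟨k, rfl⟩ := Subgroup.mem_zpowers_iff.1 hx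
        rw [mul_inv_eq_iff_eq_mul, ← zpow_natCast, ← zpow_natCast, ← zpow_mul, ← zpow_add, ← zpow_add, add_comm])
    have hgY : g ∈ Y := by
      have h9 := Nat.gcd_eq_gcd_ab (2 ^ t) r
      rw [Nat.coprime_iff_gcd_eq_one.1 hcop] at h9
      have h10 : g = (g ^ (2 ^ t)) ^ (Nat.gcdA (2 ^ t) r) * (g ^ r) ^ (Nat.gcdB (2 ^ t) r) := by
        rw [← zpow_natCast, ← zpow_natCast, ← zpow_mul, ← zpow_mul, ← zpow_add, ← h9]
        simp
      rw [h10]
      exact mul_mem (zpow_mem h2 _) (zpow_mem (h3 (Subgroup.mem_zpowers _)) _)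
    obtain ⟨x, hx, hxg⟩ := h4.exists_inv hgY
    exact ⟨x, h1 hx, hxg⟩

end Cfsg.Agent.H636.FSTwo
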