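import Cfsg.Agent.Nodes.RGDTypeA
import Cfsg.Agent.H636.RgdAb

/-!
# `PSL_n(q)`, `q` even: the Sylow 2-subgroups have elementary abelian abelianization
-/

set_option autoImplicit false
set_option linter.unusedSectionVars false

namespace Cfsg.Agent.H636.LieTwoPsl

open Matrix CoxeterSystem Cfsg.Agent.ChevalleyStructure.CoxeterGeom Cfsg.Agent.Tits.Roots
open Cfsg.Agent.Nodes.Reps Cfsg.Agent.Nodes.BNOf Cfsg.Agent.Nodes.RGDLib Cfsg.Agent.Nodes.RootsA
open Cfsg.Agent.LieRecognition.BNCox (cA)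
open Cfsg.Agent.LieClassical.SLGen
open Cfsg.Agent.TitsThree.KSideA (tv tv_of_ne tv_add tv_zero tv_neg tv_comm tv_commute diag2n_eq)
open Cfsg.Agent.Nodes.RGDTypeA Cfsg.Agent.H636.RgdAb

theorem sylEl_psl_succ {F : Type*} [Field F] [Finite F] [CharP F 2] (n : ℕ) :
    SylEl (ProjectiveSpecialLinearGroup (Fin (n + 1)) F) := by
  have : Fact (Nat.Prime 2) := ⟨Nat.prime_two⟩
  have hW : Finite (cA n).Group := finite_W (cA n).toCoxeterSystem (isCartan n)
  have R := rgd_psl (F := F) (p := 2) (cA n).toCoxeterSystem (isCartan n)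
  refine fun S => sq_mem_of_rgd' R (G1_psl_eq_top _ _) (fun i x hx => ?_) S
  obtain ⟨y, hy, rfl⟩ := hx
  have hy' : y ∈ X F (sr i) := hy
  rw [X_sr] at hy'
  obtain ⟨t, rfl⟩ := hy'
  rw [← map_mul, ← tv_add, CharTwo.add_self_eq_zero, tv_zero, map_one]

/-- `PSL_n(q)`, `q` even -/
theorem sylEl_psl {F : Type*} [Field F] [Finite F] [CharP F 2] {n : ℕ} (hn : 1 ≤ n) :
    SylEl (ProjectiveSpecialLinearGroup (Fin n) F) := by
  obtain ⟨m, rfl⟩ : ∃ m, n = m + 1 := ⟨n - 1, by omega⟩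
  exact sylEl_psl_succ m

end Cfsg.Agent.H636.LieTwoPsl
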