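import Cfsg.Agent.Mrg.Omega.Lie.End.KDead
import Cfsg.Agent.H636.RgdAb

/-!
# Suzuki groups and `²F₄(q)`, `q ≥ 8`: the Sylow 2-subgroups have elementary abelian abelianization

`suz_comm`: in a group with elements `x p u` which multiply by `x p u * x q v = x (p + q) (u + v + p σ(q))` over a
field with `σ² = 2` and more than two elements every `x 0 b` is a commutator `⁅x a 0, x c 0⁆`.
-/

set_option autoImplicit false
set_option linter.unusedSectionVars false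

namespace Cfsg.Agent.H636.LieTwoSz

open Cfsg.Agent.H636.ElemAb Cfsg.Agent.H636.RgdAb
open scoped commutatorElement

/-- Every central element of the Suzuki group law is a commutator. -/
theorem suz_comm {F G : Type*} [Field F] [Group G] (h2 : (2 : F) = 0) (σ : F →+* F) (x : F → F → G)
    (m : ∀ p u q v, x p u * x q v = x (p + q) (u + v + p * σ q)) (hroot : ∀ b : F, b ≠ 0 → ∃ a, a * σ a = b)
    {s : F} (hs : s + σ s ≠ 0) (b : F) : ∃ a c : F, x 0 b = ⁅x a 0, x c 0⁆ := by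
  have hx0 : x 0 0 = 1 := by
    have h := m 0 0 0 0
    simp only [add_zero, zero_mul] at h
    exact mul_eq_left.mp h
  have key : ∀ a c : F, ⁅x a 0, x c 0⁆ = x 0 (a * σ c + c * σ a) := by
    intro a c
    rw [commutatorElement_def, mul_inv_eq_iff_eq_mul, mul_inv_eq_iff_eq_mul, m, m, m]
    congr 1
    · ring
    · linear_combination (-(c * σ a)) * h2
  by_cases hb : b = 0
  · refine ⟨0, 0, ?_⟩
    rw [key, hb, map_zero, mul_zero, add_zero]
  · obtain ⟨a, ha⟩ := hroot (b / (s + σ s)) (div_ne_zero hb hs)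
    refine ⟨a, a * s, ?_⟩
    rw [key, map_mul]
    congr 1
    have h3 : a * σ a * (s + σ s) = b := by
      rw [ha, div_mul_cancel₀ _ hs]
    rw [← h3]
    ring

/-- An element `s` with `s + σ s ≠ 0`. -/
theorem exists_add_ne {F : Type*} [Field F] (h2 : (2 : F) = 0) (σ : F →+* F) (hσ : ∀ x, σ (σ x) = x ^ 2)
    {c : F} (hc0 : c ≠ 0) (hc1 : c ≠ 1) : c + σ c ≠ 0 := by
  intro h
  have h1 : σ c = c := by linear_combination h - c * h2
  have h3 := hσ c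
  rw [h1, h1] at h3
  have h4 : c * (c - 1) = 0 := by linear_combination -h3
  rcases mul_eq_zero.1 h4 with h5 | h5
  · exact hc0 h5
  · exact hc1 (sub_eq_zero.1 h5)

open Cfsg.Agent.ThreePrime in
/-- `Sz(q)` -/
theorem sylEl_sz {J : Type*} [Group J] [Finite J] (h : Cfsg.Lie.IsoSuzuki J) : SylEl J := by
  have : Fact (Nat.Prime 2) := ⟨Nat.prime_two⟩
  obtain ⟨F, iF, iF', m, hm, hc, ⟨R⟩⟩ := SzRel.exists_rel h
  obtain ⟨-, ho, -⟩ := Cfsg.Agent.Omega.EH3.Rank1.arith hm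
  obtain ⟨P, hP⟩ := Cfsg.Agent.Omega.EH3.Rank1.sz_sylow R (by rw [Nat.card_eq_fintype_card, hc]; exact ho)
  obtain ⟨c, hc0, hc1⟩ := Cfsg.Agent.ParSys.Fam.TwoFFour.card_ge hm hc
  refine sylEl_of P fun y => ?_
  refine pow_mem_of_subset 2 (P : Subgroup J) (P : Subgroup J) (fun _ hx => hx) (Subgroup.subset_closure) ?_ y
  intro x hx
  have h1 : x ∈ R.T := by rw [← hP]; exact hx
  obtain ⟨a, b, rfl⟩ := h1
  obtain ⟨a', c', h2⟩ := suz_comm R.two R.θ R.u R.u_mul (fun b hb => by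
    obtain ⟨k, hk⟩ := R.exists_mul_theta (Units.mk0 b hb)
    exact ⟨k, hk⟩) (exists_add_ne R.two R.θ R.sq hc0 hc1) (a * R.θ a)
  rw [pow_two, R.u_mul_self, h2]
  exact Subgroup.commutator_mem_commutator (by rw [hP]; exact R.u_mem _ _) (by rw [hP]; exact R.u_mem _ _)

section TwoFFour

open Cfsg.Lie
open Cfsg.Agent.ChevalleyStructure.TwF4.Rel
open Cfsg.Agent.ChevalleyStructure.TwF4.Groups Cfsg.Agent.ChevalleyStructure.TwF4.RankOne
open Cfsg.Agent.ChevalleyStructure.TwF4.Twisted Cfsg.Agent.ChevalleyStructure.TwF4.TwistedFix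
open Cfsg.Agent.ChevalleyStructure.TwF4.BN
open Cfsg.Agent.Schreier.TwFFour Cfsg.Agent.Schreier.TwoGen
open Cfsg.Agent.Octagon.KRel (x8)
open Cfsg.Agent.Octagon.KSys Cfsg.Agent.Octagon.KPar Cfsg.Agent.Octagon.KRoot Cfsg.Agent.Octagon.Pkg
open Cfsg.Agent.ParSys.Fam.TwoFFour Cfsg.Agent.Omega.Lie.End.DeadPhi

variable {K : Type*} [Field K] [Fintype K] [CharP K 2] {φ : K →+* K} {e : ℕ}

theorem sq_mem_U0 (hφ : Rln φ e) {c : K} (hc0 : c ≠ 0) (hc1 : c ≠ 1) (x : ↥(U0 K e)) :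
    x ^ 2 ∈ commutator ↥(U0 K e) := by
  have h2 : (2 : K) = 0 := CharTwo.two_eq_zero
  have hsq : ∀ x, φ (φ x) = x ^ 2 := by
    intro x
    rw [hφ.phi x, map_pow, hφ.phi_pow]
  have hroot : ∀ b : K, b ≠ 0 → ∃ a, a * φ a = b := by
    intro b hb
    have h4 := congrArg (fun x : Kˣ => (x : K)) (exists_root hφ (Units.mk0 b hb))
    simp only [Units.val_pow_eq_pow_val, Units.val_mk0] at h4
    refine ⟨((((Units.mk0 b hb) ^ (2 * e))⁻¹ * (Units.mk0 b hb) ^ 2 : Kˣ) : K) ^ e, ?_⟩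
    rw [hφ.phi_pow, ← pow_succ]
    exact h4
  refine pow_mem_of_subset 2 (U0 K e) (({g | ∃ p u, y8 hφ p u = g} ∪ {g | ∃ t, y1 hφ t = g}) ∪
    (⁅U0 K e, U0 K e⁆ : Subgroup _)) ?_ ?_ ?_ x
  · rintro g ((⟨p, u, rfl⟩ | ⟨t, rfl⟩) | hg)
    · exact U8 hφ p u
    · exact U1 hφ t
    · exact Subgroup.commutator_le_self _ hg
  · intro u hu
    obtain ⟨v, hv, t, h⟩ := decU_a hφ hu
    obtain ⟨y, hy, d, hd, -, hvy⟩ := dec_ge hφ hc0 hc1 7 1 (by norm_num) le_rfl v hv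
    have hy' : y ∈ XX K e 8 := hy
    obtain ⟨p, w, rfl⟩ := (memXX8 hφ y).1 hy'
    have hy1 : (⟨xa e t, xa_mem t⟩ : ↥(twistedF4 K e)) = y1 hφ (t ^ e) := by
      apply Subtype.ext
      rw [coe_y1, xa_eq hφ, hφ.phi_pow]
    rw [h, hvy, hy1]
    refine Subgroup.mul_mem _ (Subgroup.mul_mem _ ?_ ?_) ?_
    · exact Subgroup.subset_closure (Or.inl (Or.inl ⟨p, w, rfl⟩))
    · exact Subgroup.subset_closure (Or.inr hd)
    · exact Subgroup.subset_closure (Or.inl (Or.inr ⟨_, rfl⟩))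
  · rintro g ((⟨p, u, rfl⟩ | ⟨t, rfl⟩) | hg)
    · rw [pow_two, (octPar hφ).m8, CharTwo.add_self_eq_zero, CharTwo.add_self_eq_zero, zero_add]
      obtain ⟨a', c', h3⟩ := suz_comm h2 φ (y8 hφ) (octPar hφ).m8 hroot (exists_add_ne h2 φ hsq hc0 hc1) (p * φ p)
      rw [h3]
      exact Subgroup.commutator_mem_commutator (U8 hφ _ _) (U8 hφ _ _)
    · rw [pow_two, (octPar hφ).m1, CharTwo.add_self_eq_zero]
      have h4 : y1 hφ (0 : K) = 1 := by
        have := (octPar hφ).m1 0 0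
        rw [add_zero] at this
        exact mul_eq_left.1 this
      rw [h4]
      exact Subgroup.one_mem _
    · exact Subgroup.pow_mem _ hg 2

end TwoFFour

open Cfsg.Lie Cfsg.Agent.ChevalleyStructure.TwF4.TwistedFix Cfsg.Agent.ParSys.Fam.TwoFFour
  Cfsg.Agent.Omega.Lie.End.DeadPhi Cfsg.Agent.ChevalleyStructure.TwF4.Twisted in
/-- `²F₄(q)`, `q ≥ 8` -/
theorem sylEl_twoFFour {Y : Type*} [Group Y] (h : Iso2F4 Y) : SylEl Y := by
  have : Fact (Nat.Prime 2) := ⟨Nat.prime_two⟩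
  obtain ⟨K, _, _, m, hm, hK, ⟨f⟩⟩ := h
  have : CharP K 2 := charP_two hK
  obtain ⟨φ, hφ⟩ := exists_rln hK
  obtain ⟨P, hP⟩ := exists_sylow_U0 hK hφ
  obtain ⟨c, hc0, hc1⟩ := card_ge hm hK
  refine SylEl.of_equiv f (sylEl_of P ?_)
  rw [hP]
  exact sq_mem_U0 hφ hc0 hc1

end Cfsg.Agent.H636.LieTwoSz
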