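import Cfsg.Agent.Nodes.RGDTwNode
import Cfsg.Agent.Nodes.RGDTwE6
import Cfsg.Agent.Nodes.RGDTwD4
import Cfsg.Agent.H636.RgdAb

/-!
# `²E₆(q)`, `³D₄(q)`, `q` even: the Sylow 2-subgroups have elementary abelian abelianization
-/

set_option autoImplicit false
set_option linter.unusedSectionVars false

namespace Cfsg.Agent.H636.LieTwoTw

open CoxeterSystem Cfsg.Agent.ChevalleyStructure.CoxeterGeom Cfsg.Agent.Tits.Roots Cfsg.Agent.Tits.Core
  Cfsg.Agent.Nodes.Reps Cfsg.Agent.Nodes.BNOf Cfsg.Agent.Nodes.RGDFoldSL Cfsg.Agent.Nodes.RGDFold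
open Cfsg.Lie Cfsg.Agent.ChevalleyStructure Cfsg.Agent.ChevalleyStructure.CoxeterGeomTypes Cfsg.Agent.Nodes.RGDChev
open Cfsg.Agent.ChevalleyStructure.SL2Hom (up lo)
open Cfsg.Agent.H636.RgdAb

universe u

theorem up_sq {F : Type*} [Field F] [CharP F 2] (a : F) :
    (up a : Matrix.SpecialLinearGroup (Fin 2) F) * up a = 1 := by
  apply Subtype.ext
  change (!![1, a; 0, 1] * !![1, a; 0, 1] : Matrix (Fin 2) (Fin 2) F) = 1
  rw [Matrix.mul_fin_two]
  ext i j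
  fin_cases i <;> fin_cases j <;> simp [CharTwo.add_self_eq_zero]

section twE6

open Cfsg.Agent.Nodes.RGDTwE6 Cfsg.Agent.Nodes.RGDTwNode.E6

variable {K : Type u} [Field K] [Fintype K] [CharP K 2] {q : ℕ}

/-- **`²E₆(q)`** -/
theorem sylEl_twE6 (hq : IsPrimePow q) (hK : Fintype.card K = q ^ 2) : SylEl ↥(twistedE6 K q) := by
  have hp2 : Fact (Nat.Prime 2) := ⟨Nat.prime_two⟩
  obtain ⟨φ, hφ, hqq⟩ := TwE6Basic.exists_frob hq hK
  have hW : Finite CoxeterMatrix.F₄.Group :=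
    Cfsg.Agent.Nodes.RGDFold.finite_W (hp := hp) CoxeterMatrix.F₄.toCoxeterSystem isCartan foldData
  refine fun S => sq_mem_of_rgd' (rgd CoxeterMatrix.F₄.toCoxeterSystem hφ hqq 2)
    (G1_eq_top CoxeterMatrix.F₄.toCoxeterSystem hφ hqq) (fun i x hx => ?_) S
  have hf : ∀ s ∈ rep i :: rest i, ∀ t : K, ((TwistedE6Sigma.eps s : ℤ) : K) * φ t = φ t := by
    intro s hs t
    rw [eps_one i s hs, Int.cast_one, one_mul]
  obtain ⟨a, rfl⟩ := (mem_X_iff (foldGrp hφ hqq) (nodeOK i) hf x).1 hx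
  have hc : CharP (Fx φ ((rest i).length + 1)) 2 :=
    (RingHom.charP_iff (Fx φ ((rest i).length + 1)).subtype (Fx φ ((rest i).length + 1)).subtype_injective 2).2
      inferInstance
  rw [← map_mul, up_sq, map_one]

end twE6

section twD4

open Cfsg.Agent.Nodes.RGDTwNode.D4

variable {K : Type u} [Field K] [Fintype K] [CharP K 2] {q : ℕ}

/-- **`³D₄(q)`** -/
theorem sylEl_twD4 (hq : IsPrimePow q) (hK : Fintype.card K = q ^ 3) : SylEl ↥(twistedD4 K q) := by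
  have hp2 : Fact (Nat.Prime 2) := ⟨Nat.prime_two⟩
  obtain ⟨φ, hφ⟩ := D4Fixed.exists_frob hq hK
  have hle := D4Fixed.twisted_le_fix hK hφ
  have hW : Finite CoxeterMatrix.G₂.Group :=
    Cfsg.Agent.Nodes.RGDFold.finite_W (hp := Nodes.RGDTwD4.hp) CoxeterMatrix.G₂.toCoxeterSystem
      Nodes.RGDTwD4.isCartan Nodes.RGDTwD4.foldData
  refine fun S => sq_mem_of_rgd' (Nodes.RGDTwD4.rgd CoxeterMatrix.G₂.toCoxeterSystem hK hφ 2)
    (Nodes.RGDTwD4.G1_eq_top CoxeterMatrix.G₂.toCoxeterSystem hK hφ) (fun i x hx => ?_) S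
  have hf : ∀ s ∈ rep i :: rest i, ∀ t : K, ((Nodes.RGDTwD4.eps s : ℤ) : K) * φ t = φ t := by
    intro s hs t
    rw [eps_one i s hs, Int.cast_one, one_mul]
  obtain ⟨a, rfl⟩ := (mem_X_iff (Nodes.RGDTwD4.foldGrp hφ hle) (nodeOK i) hf x).1 hx
  have hc : CharP (Fx φ ((rest i).length + 1)) 2 :=
    (RingHom.charP_iff (Fx φ ((rest i).length + 1)).subtype (Fx φ ((rest i).length + 1)).subtype_injective 2).2
      inferInstance
  rw [← map_mul, up_sq, map_one]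

end twD4

end Cfsg.Agent.H636.LieTwoTw
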